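import Groth.Agent.LefLib.Dual
import Groth.Agent.DerBC7.TensorFlat
import Groth.Agent.PerfLocus7.RelFlatBasic
import Groth.Agent.ParShLib.ResStalk
import Groth.Agent.QCoh.LocFree
import Groth.Agent.KZ.LFRes
import Groth.Agent.S2436

/-!
# `M ↦ Hom(E, f^*(M~) ⊗ F)` is corepresentable for `E` finite locally free
-/

set_option linter.style.haveILetI false
set_option linter.unusedSectionVars false
set_option backward.isDefEq.respectTransparency false
set_option backward.isDefEq.respectTransparency.types false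

universe u

open CategoryTheory CategoryTheory.Limits AlgebraicGeometry Opposite

attribute [local instance] HasDerivedCategory.standard

noncomputable section

namespace Groth.Agent.HomCorep

open Groth.Agent Groth.Agent.AmpleVan

variable {X : Scheme.{u}}

theorem toHom_add {F G : X.Modules} (g g' : Γ(RefHull.homSh F G, ⊤)) :
    HomShX.toHom (g + g') = HomShX.toHom g + HomShX.toHom g' := by
  refine HomShX.ext_stalk fun x => ?_
  rw [HomShX.stalkMapₗ_toHom]
  refine LinearMap.ext fun v => ?_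
  have h : RefHull.stalkMapₗ (HomShX.toHom g + HomShX.toHom g') x =
      RefHull.stalkMapₗ (HomShX.toHom g) x + RefHull.stalkMapₗ (HomShX.toHom g') x :=
    congrArg ModuleCat.Hom.hom ((DerSch.stalkFunctor X x).map_add
      (f := HomShX.toHom g) (g := HomShX.toHom g'))
  rw [h, HomShX.stalkMapₗ_toHom, HomShX.stalkMapₗ_toHom]
  rfl

theorem ofTw_add (E : X.Modules) {G : X.Modules} (t t' : Γ((tw E).obj G, ⊤)) :
    LefLib.ofTw E (t + t') = LefLib.ofTw E t + LefLib.ofTw E t' := by
  simp only [LefLib.ofTw, map_add]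
  exact toHom_add _ _

variable (A : Type u) [CommRing A] [X.Over (Spec (CommRingCat.of A))]

/-- `f^*(M~) ⊗ F ⊗ W = f^*(M~) ⊗ (F ⊗ W)`. -/
def tensorAComp (F W : X.Modules) :
    CohIII.tensorAFunctor A F ⋙ tw W ≅ CohIII.tensorAFunctor A ((tw W).obj F) :=
  Functor.associator _ _ _ ≪≫ Functor.isoWhiskerLeft _ (Functor.associator _ _ _ ≪≫
    Functor.isoWhiskerLeft _ (NatIso.ofComponents (fun N => (twComp F W).app N)
      (fun {N N'} φ => (twComp F W).hom.naturality φ)))

/-- Global sections, as a group, of the module of global sections. -/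
def gammaEquiv (N : X.Modules) : (CohIII.globalSectionsA A).obj N ≃+ Γ(N, ⊤) where
  toFun x := x
  invFun x := x
  left_inv _ := rfl
  right_inv _ := rfl
  map_add' _ _ := rfl

lemma gammaEquiv_natural {N N' : X.Modules} (φ : N ⟶ N') (x : (CohIII.globalSectionsA A).obj N) :
    gammaEquiv A N' (((CohIII.globalSectionsA A).map φ).hom x) = φ.app ⊤ (gammaEquiv A N x) := rfl

/-- Sections of `T ⊗ W` natural in the parameter are morphisms out of the dual. -/
theorem exists_natEquiv_of_sections {C : Type*} [Category C] [Preadditive C] (T T' : C ⥤ X.Modules)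
    {E : X.Modules} (hE : FlatMod.IsFinLocFree E) (i : T ⋙ tw (RefHull.dual E) ≅ T') {Q : C}
    (r : ∀ M, (Q ⟶ M) ≃+ Γ(T'.obj M, ⊤))
    (hr : ∀ (M M' : C) (g : M ⟶ M') (h : Q ⟶ M), r M' (h ≫ g) = (T'.map g).app ⊤ (r M h)) :
    ∃ e : ∀ M : C, (Q ⟶ M) ≃+ (E ⟶ T.obj M),
        ∀ (M M' : C) (g : M ⟶ M') (h : Q ⟶ M), e M' (h ≫ g) = e M h ≫ T.map g := by
  have hW : FlatMod.IsFinLocFree (RefHull.dual E) := PerfGen7.ResDescend.isFinLocFree_dual hE
  haveI := ExtShX.isIso_bidualMap hE
  let b : E ⟶ RefHull.dual (RefHull.dual E) := RefHull.bidualMap E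
  let e : ∀ M : C, (Q ⟶ M) → (E ⟶ T.obj M) := fun M h =>
    b ≫ LefLib.ofTw (RefHull.dual E) ((i.inv.app M).app ⊤ (r M h))
  have hadd : ∀ (M : C) (h h' : Q ⟶ M), e M (h + h') = e M h + e M h' := fun M h h' => by
    simp only [e, map_add]
    exact (congrArg (b ≫ ·) (ofTw_add _ _ _)).trans (Preadditive.comp_add _ _ _ _ _ _)
  have hbij : ∀ M : C, Function.Bijective (e M) := fun M => by
    refine Function.Bijective.comp (g := fun t : RefHull.dual (RefHull.dual E) ⟶ _ => b ≫ t)
      ⟨fun s t hst => (cancel_epi b).1 hst, fun s => ⟨inv b ≫ s, IsIso.hom_inv_id_assoc b s⟩⟩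
      ((LefLib.ofTw_bijective hW _).comp
        ((ConcreteCategory.bijective_of_isIso ((Scheme.Modules.toPresheaf X).map (i.inv.app M) |>.app (op ⊤))).comp
          (r M).bijective))
  refine ⟨fun M => AddEquiv.mk' (Equiv.ofBijective (e M) (hbij M)) (hadd M), fun M M' g h => ?_⟩
  show e M' (h ≫ g) = e M h ≫ _
  simp only [e, Category.assoc]
  refine congrArg (b ≫ ·) ?_
  rw [← LefLib.ofTw_natural, hr]
  exact congrArg (LefLib.ofTw _) (congr(($(i.inv.naturality g)).app ⊤ (r M h)))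

theorem isFlatOver_tw {S : Scheme.{u}} (f : X ⟶ S) {F W : X.Modules} (hW : FlatMod.IsFlat W)
    (hfl : FlatMod.IsFlatOver f F) : FlatMod.IsFlatOver f (CohB1.tensorMod F W) := by
  obtain ⟨c⟩ := H23.PicMul.comm W F
  have h : FlatMod.IsFlatOver f ((DCoh.tensorBi.obj W).obj F) := DerBC7.isFlatOver_tensor_of_isFlat f hW hfl
  have e : (DCoh.tensorBi.obj W).obj F ≅ CohB1.tensorMod F W := c
  exact PerfLocus7.isFlatOver_of_iso f e h

theorem exists_natEquiv [IsNoetherianRing A] [IsProper (X ↘ Spec (CommRingCat.of A))]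
    {F : X.Modules} (hF : Coh.IsCoh F) (hfl : FlatMod.IsFlatOver (X ↘ Spec (CommRingCat.of A)) F)
    {E : X.Modules} (hE : FlatMod.IsFinLocFree E) :
    ∃ Q : ModuleCat.{u} A, Module.Finite A Q ∧
      ∃ e : ∀ M : ModuleCat.{u} A, (Q ⟶ M) ≃+ (E ⟶ (CohIII.tensorAFunctor A F).obj M),
        ∀ (M M' : ModuleCat.{u} A) (g : M ⟶ M') (h : Q ⟶ M),
          e M' (h ≫ g) = e M h ≫ (CohIII.tensorAFunctor A F).map g := by
  haveI : IsNoetherianRing (CommRingCat.of A) := inferInstanceAs (IsNoetherianRing A)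
  haveI : IsLocallyNoetherian X := LocallyOfFiniteType.isLocallyNoetherian (X ↘ Spec (CommRingCat.of A))
  let W := RefHull.dual E
  have hW : FlatMod.IsFinLocFree W := PerfGen7.ResDescend.isFinLocFree_dual hE
  have hWc : Coh.IsCoh W := ⟨QCoh.isQCoh_of_isFinLocFree hW, QCoh.isFT_of_isFP (QCoh.isFP_of_isFinLocFree hW)⟩
  have hF' : Coh.IsCoh ((tw W).obj F) := ParShLib.isCoh_tensorMod hF hWc
  have hfl' : FlatMod.IsFlatOver (X ↘ Spec (CommRingCat.of A)) ((tw W).obj F) :=
    isFlatOver_tw _ (QCoh.isFlat_and_isFP_iff.2 hW).1 hfl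
  obtain ⟨Q, hQ, ⟨r⟩⟩ := Groth.Agent.S2436.result A X ((tw W).obj F) hF' hfl'
  refine ⟨Q, hQ, exists_natEquiv_of_sections (CohIII.tensorAFunctor A F)
    (CohIII.tensorAFunctor A ((tw W).obj F)) hE (tensorAComp A F W)
    (fun M => (r.symm.app M).toLinearEquiv.toAddEquiv.trans (gammaEquiv A _)) fun M M' g h => ?_⟩
  have h1 := congr($(r.inv.naturality g) h)
  exact (congrArg (gammaEquiv A _) h1).trans (gammaEquiv_natural A _ _)

end Groth.Agent.HomCorep
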